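import Groth.Agent.Lib.Lead.CohLES.Finite

/-! # Vanishing statements from the long exact cohomology sequence (no base ring needed). -/

universe u
open CategoryTheory Limits Opposite Abelian TopologicalSpace AlgebraicGeometry

namespace Groth.Agent.LD.CL

variable {X : Scheme.{u}}

/-- the map on cohomology induced by a morphism of modules (additive). -/
noncomputable def HHmapZ {M N : X.Modules} (φ : M ⟶ N) (i : ℕ) :
    Coh.HH X M i →+ Coh.HH X N i :=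
  (HHmapΓ φ i).toAddMonoidHom

lemma HHmapZ_apply {M N : X.Modules} (φ : M ⟶ N) (i : ℕ) (x : Coh.HH X M i) :
    HHmapZ φ i x = Sheaf.H.map ((SheafOfModules.toSheaf X.ringCatSheaf).map φ) i x := rfl

lemma HHmapZ_id (M : X.Modules) (i : ℕ) (x : Coh.HH X M i) : HHmapZ (𝟙 M) i x = x := by
  have h : (SheafOfModules.toSheaf X.ringCatSheaf).map (𝟙 M) = 𝟙 _ :=
    (SC.toAbF X).map_id M
  rw [HHmapZ_apply]
  refine (congrArg (fun t => Sheaf.H.map t i x) h).trans ?_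
  simp [Sheaf.H.map]

lemma HHmapZ_comp {M N P : X.Modules} (φ : M ⟶ N) (ψ : N ⟶ P) (i : ℕ) (x : Coh.HH X M i) :
    HHmapZ (φ ≫ ψ) i x = HHmapZ ψ i (HHmapZ φ i x) := by
  have h : (SheafOfModules.toSheaf X.ringCatSheaf).map (φ ≫ ψ) =
      (SheafOfModules.toSheaf X.ringCatSheaf).map φ ≫
        (SheafOfModules.toSheaf X.ringCatSheaf).map ψ := (SC.toAbF X).map_comp φ ψ
  rw [HHmapZ_apply, HHmapZ_apply, HHmapZ_apply]
  refine (congrArg (fun t => Sheaf.H.map t i x) h).trans ?_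
  simp [Sheaf.H.map]

/-- cohomology of isomorphic modules. -/
theorem subsingleton_of_iso {M N : X.Modules} (e : M ≅ N) (i : ℕ)
    (h : Subsingleton (Coh.HH X M i)) : Subsingleton (Coh.HH X N i) := by
  refine ⟨fun a b => ?_⟩
  have ha : a = HHmapZ e.hom i (HHmapZ e.inv i a) := by
    rw [← HHmapZ_comp, e.inv_hom_id, HHmapZ_id]
  have hb : b = HHmapZ e.hom i (HHmapZ e.inv i b) := by
    rw [← HHmapZ_comp, e.inv_hom_id, HHmapZ_id]
  rw [ha, hb, Subsingleton.elim (HHmapZ e.inv i a) (HHmapZ e.inv i b)]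

lemma HHmapZ_add {M N : X.Modules} (φ ψ : M ⟶ N) (i : ℕ) (x : Coh.HH X M i) :
    HHmapZ (φ + ψ) i x = HHmapZ φ i x + HHmapZ ψ i x := by
  have h : (SheafOfModules.toSheaf X.ringCatSheaf).map (φ + ψ) =
      (SheafOfModules.toSheaf X.ringCatSheaf).map φ +
        (SheafOfModules.toSheaf X.ringCatSheaf).map ψ := (SC.toAbF X).map_add
  rw [HHmapZ_apply, h, Sheaf.H.map_add_apply]
  rfl

lemma HHmapZ_zero {M N : X.Modules} (i : ℕ) (x : Coh.HH X M i) :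
    HHmapZ (0 : M ⟶ N) i x = 0 := by
  have h : (SheafOfModules.toSheaf X.ringCatSheaf).map (0 : M ⟶ N) = 0 :=
    (SC.toAbF X).map_zero M N
  rw [HHmapZ_apply, h]
  change ((Sheaf.functorH _ i).map (0 : Coh.toAb M ⟶ Coh.toAb N)).hom x = 0
  rw [Functor.map_zero]
  rfl

lemma HHmapZ_sum {M N : X.Modules} {ι : Type*} (s : Finset ι) (φ : ι → (M ⟶ N)) (i : ℕ)
    (x : Coh.HH X M i) :
    HHmapZ (∑ j ∈ s, φ j) i x = ∑ j ∈ s, HHmapZ (φ j) i x := by
  classical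
  induction s using Finset.induction_on with
  | empty => rw [Finset.sum_empty, Finset.sum_empty, HHmapZ_zero]
  | insert a s ha ih => rw [Finset.sum_insert ha, Finset.sum_insert ha, HHmapZ_add, ih]

/-- if the identity of `P` is a finite sum of maps factoring through modules with vanishing
`H^i`, then `H^i(P) = 0`. -/
theorem subsingleton_of_total {P : X.Modules} {ι : Type*} [Fintype ι] (Q : ι → X.Modules)
    (a : ∀ j, Q j ⟶ P) (b : ∀ j, P ⟶ Q j) (h : ∑ j, b j ≫ a j = 𝟙 P) (i : ℕ)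
    (hQ : ∀ j, Subsingleton (Coh.HH X (Q j) i)) : Subsingleton (Coh.HH X P i) := by
  refine ⟨fun x y => ?_⟩
  have key : ∀ z : Coh.HH X P i, z = 0 := by
    intro z
    have hz : z = HHmapZ (∑ j, b j ≫ a j) i z := by rw [h, HHmapZ_id]
    rw [hz, HHmapZ_sum]
    apply Finset.sum_eq_zero
    intro j _
    rw [HHmapZ_comp, (hQ j).elim (HHmapZ (b j) i z) 0, map_zero]
  rw [key x, key y]

variable {S : ShortComplex X.Modules} (hS : S.ShortExact)
include hS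

/-- `H^i(X₁) = 0 = H^i(X₃)` implies `H^i(X₂) = 0`. -/
theorem subsingleton_mid (i : ℕ) (h₁ : Subsingleton (Coh.HH X S.X₁ i))
    (h₃ : Subsingleton (Coh.HH X S.X₃ i)) : Subsingleton (Coh.HH X S.X₂ i) := by
  refine ⟨fun a b => ?_⟩
  have key : ∀ x₂ : Coh.HH X S.X₂ i, x₂ = 0 := by
    intro x₂
    obtain ⟨x₁, hx₁⟩ := Ext.covariant_sequence_exact₂.{u, u, u+1}
      (C := Sheaf (SC.JX X) AddCommGrpCat.{u}) _ (SC.shortExact_toSheaf hS) x₂
      (h₃.elim _ _)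
    rw [← hx₁, h₁.elim x₁ 0]
    exact Ext.zero_comp.{u, u, u+1} (C := Sheaf (SC.JX X) AddCommGrpCat.{u}) _ _ _ _ _
  rw [key a, key b]

/-- `H^i(X₃) = 0 = H^{i+1}(X₂)` implies `H^{i+1}(X₁) = 0`. -/
theorem subsingleton_left (i : ℕ) (h₃ : Subsingleton (Coh.HH X S.X₃ i))
    (h₂ : Subsingleton (Coh.HH X S.X₂ (i + 1))) : Subsingleton (Coh.HH X S.X₁ (i + 1)) := by
  refine ⟨fun a b => ?_⟩
  have key : ∀ x₁ : Coh.HH X S.X₁ (i + 1), x₁ = 0 := by
    intro x₁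
    obtain ⟨x₃, hx₃⟩ := Ext.covariant_sequence_exact₁.{u, u, u+1}
      (C := Sheaf (SC.JX X) AddCommGrpCat.{u}) _ (SC.shortExact_toSheaf hS) x₁
      (h₂.elim _ _) rfl
    rw [← hx₃, h₃.elim x₃ 0]
    exact Ext.zero_comp.{u, u, u+1} (C := Sheaf (SC.JX X) AddCommGrpCat.{u}) _ _ _ _ _
  rw [key a, key b]

/-- `H^i(X₂) = 0 = H^{i+1}(X₁)` implies `H^i(X₃) = 0`. -/
theorem subsingleton_right (i : ℕ) (h₂ : Subsingleton (Coh.HH X S.X₂ i))
    (h₁ : Subsingleton (Coh.HH X S.X₁ (i + 1))) : Subsingleton (Coh.HH X S.X₃ i) := by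
  refine ⟨fun a b => ?_⟩
  have key : ∀ x₃ : Coh.HH X S.X₃ i, x₃ = 0 := by
    intro x₃
    obtain ⟨x₂, hx₂⟩ := Ext.covariant_sequence_exact₃.{u, u, u+1}
      (C := Sheaf (SC.JX X) AddCommGrpCat.{u}) _ (SC.shortExact_toSheaf hS) x₃ rfl
      (h₁.elim _ _)
    rw [← hx₂, h₂.elim x₂ 0]
    exact Ext.zero_comp.{u, u, u+1} (C := Sheaf (SC.JX X) AddCommGrpCat.{u}) _ _ _ _ _
  rw [key a, key b]

/-- `H^{i+1}(X₁) = 0` implies that `H^i(X₂) → H^i(X₃)` is surjective. -/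
theorem surjective_of_subsingleton (i : ℕ) (h₁ : Subsingleton (Coh.HH X S.X₁ (i + 1))) :
    Function.Surjective (HHmapZ S.g i) := by
  intro x₃
  obtain ⟨x₂, hx₂⟩ := Ext.covariant_sequence_exact₃.{u, u, u+1}
    (C := Sheaf (SC.JX X) AddCommGrpCat.{u}) _ (SC.shortExact_toSheaf hS) x₃ rfl
    (h₁.elim _ _)
  exact ⟨x₂, hx₂⟩

/-- `H^i(X₃) = 0` implies that `H^{i+1}(X₁) → H^{i+1}(X₂)` is injective. -/
theorem injective_of_subsingleton (i : ℕ) (h₃ : Subsingleton (Coh.HH X S.X₃ i)) :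
    Function.Injective (HHmapZ S.f (i + 1)) := by
  rw [injective_iff_map_eq_zero]
  intro x₁ hx
  obtain ⟨x₃, hx₃⟩ := Ext.covariant_sequence_exact₁.{u, u, u+1}
    (C := Sheaf (SC.JX X) AddCommGrpCat.{u}) _ (SC.shortExact_toSheaf hS) x₁ hx rfl
  rw [← hx₃, h₃.elim x₃ 0]
  exact Ext.zero_comp.{u, u, u+1} (C := Sheaf (SC.JX X) AddCommGrpCat.{u}) _ _ _ _ _

end Groth.Agent.LD.CL
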