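import Groth.Agent.Lib.Lead.CohLES.Basic
import Groth.Agent.Lib.Lead.SC.GenCrit

/-! # Finiteness of cohomology: abstract dévissage. -/

universe u
open CategoryTheory Limits Opposite Abelian TopologicalSpace AlgebraicGeometry

namespace Groth.Agent.LD.CL

/-- over a noetherian ring, the middle term of an exact sequence with finite ends is finite. -/
theorem finite_of_exact {A : Type*} [CommRing A] [IsNoetherianRing A] {M' M M'' : Type*}
    [AddCommGroup M'] [AddCommGroup M] [AddCommGroup M''] [Module A M'] [Module A M]
    [Module A M''] [Module.Finite A M'] [Module.Finite A M''] (f : M' →ₗ[A] M) (g : M →ₗ[A] M'')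
    (h : ∀ x, g x = 0 → ∃ y, f y = x) : Module.Finite A M := by
  haveI : IsNoetherian A M'' := isNoetherian_of_isNoetherianRing_of_finite A M''
  rw [Module.finite_def]
  apply Submodule.fg_of_fg_map_of_fg_inf_ker g
  · exact IsNoetherian.noetherian _
  · rw [top_inf_eq]
    have hle : LinearMap.ker g ≤ LinearMap.range f := by
      intro x hx
      exact h x hx
    have hfg : (LinearMap.range f).FG := by
      rw [LinearMap.range_eq_map]
      exact (Module.finite_def.1 inferInstance).map f
    haveI : IsNoetherian A M' := isNoetherian_of_isNoetherianRing_of_finite A M'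
    haveI : IsNoetherian A (LinearMap.range f) := isNoetherian_of_surjective f.rangeRestrict
      (LinearMap.range_rangeRestrict f)
    have hsub : (Submodule.comap (LinearMap.range f).subtype (LinearMap.ker g)).FG :=
      IsNoetherian.noetherian _
    have := hsub.map (LinearMap.range f).subtype
    rwa [Submodule.map_comap_subtype, inf_eq_right.2 hle] at this

/-- a module which is a finite sum of images of finite modules is finite. -/
theorem finite_of_total {A : Type*} [CommRing A] {P : Type*} [AddCommGroup P] [Module A P]
    {ι : Type*} [Fintype ι] (Q : ι → Type*) [∀ j, AddCommGroup (Q j)] [∀ j, Module A (Q j)]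
    [∀ j, Module.Finite A (Q j)] (a : ∀ j, Q j →ₗ[A] P) (b : ∀ j, P →ₗ[A] Q j)
    (h : ∑ j, (a j).comp (b j) = LinearMap.id) : Module.Finite A P := by
  rw [Module.finite_def]
  have htop : (⊤ : Submodule A P) = ⨆ j, LinearMap.range (a j) := by
    apply le_antisymm
    · intro x _
      have hx : x = ∑ j, a j (b j x) := by
        conv_lhs => rw [← LinearMap.id_apply (R := A) x, ← h]
        rw [LinearMap.sum_apply]
        rfl
      rw [hx]
      exact Submodule.sum_mem _ fun j _ =>
        Submodule.mem_iSup_of_mem j (LinearMap.mem_range_self _ _)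
    · exact le_top
  rw [htop]
  apply Submodule.fg_iSup
  intro j
  rw [LinearMap.range_eq_map]
  exact (Module.finite_def.1 inferInstance).map (a j)

variable {X : Scheme.{u}} (A : Type u) [CommRing A] [X.Over (Spec (CommRingCat.of A))]

/-- the cohomology of a finite constant direct sum is finite if that of the summand is. -/
theorem finite_HH_sigma (N : X.Modules) (K : ℕ) (i : ℕ) [Module.Finite A (Coh.HH X N i)] :
    Module.Finite A (Coh.HH X (∐ fun _ : Fin K => N) i) := by
  apply finite_of_total (fun _ : Fin K => Coh.HH X N i)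
    (fun j => HHmap A (Limits.Sigma.ι (fun _ : Fin K => N) j) i)
    (fun j => HHmap A (SC.sigmaProj N K j) i)
  rw [← HHmap_id]
  rw [← SC.sigmaProj_total N K, HHmap_sum]
  apply Finset.sum_congr rfl
  intro j _
  rw [HHmap_comp]

/-- **dévissage**: if every module of a class `𝒞` is a quotient, with kernel in `𝒞`, of a module
with finite cohomology, and the cohomology of the modules in `𝒞` vanishes in large degrees, then
the cohomology of the modules in `𝒞` is finite. -/
theorem finite_HH_of_devissage [IsNoetherianRing A] (𝒞 : X.Modules → Prop)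
    (hres : ∀ M, 𝒞 M → ∃ (S : ShortComplex X.Modules), S.ShortExact ∧ Nonempty (S.X₃ ≅ M) ∧
      𝒞 S.X₁ ∧ ∀ i, Module.Finite A (Coh.HH X S.X₂ i))
    (N : ℕ) (hvan : ∀ M, 𝒞 M → ∀ i, N < i → Subsingleton (Coh.HH X M i))
    (M : X.Modules) (hM : 𝒞 M) (i : ℕ) : Module.Finite A (Coh.HH X M i) := by
  suffices key : ∀ (k : ℕ) (i : ℕ), N < i + k → ∀ M, 𝒞 M → Module.Finite A (Coh.HH X M i) from
    key (N + 1) i (by omega) M hM
  intro k
  induction k with
  | zero =>
    intro i hi M hM
    haveI := hvan M hM i (by omega)
    infer_instance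
  | succ k ih =>
    intro i hi M hM
    obtain ⟨S, hS, ⟨e⟩, hK, hE⟩ := hres M hM
    haveI := hE i
    haveI := ih (i+1) (by omega) S.X₁ hK
    haveI : Module.Finite A (Coh.HH X S.X₃ i) :=
      finite_of_exact (HHmap A S.g i) (HHδ hS A i) (fun x hx => exact₃ hS A i x hx)
    exact Module.Finite.of_surjective (HHmap A e.hom i) (by
      intro y
      refine ⟨HHmap A e.inv i y, ?_⟩
      rw [← LinearMap.comp_apply, ← HHmap_comp, e.inv_hom_id, HHmap_id]
      rfl)

end Groth.Agent.LD.CL
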