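import Groth.Agent.Lib.Lead.CohLES.Finite

/-! # Dualizing pairs: dévissage. -/

universe u
open CategoryTheory Limits Opposite Abelian TopologicalSpace AlgebraicGeometry

namespace Groth.Agent.LD.CL

variable {X : Scheme.{u}} (A : Type u) [CommRing A] [X.Over (Spec (CommRingCat.of A))]

/-- the linear form on `H^n(F)` attached to a morphism `F ⟶ ω` and a trace `t`. -/
noncomputable def Θ (n : ℕ) {ω : X.Modules} (t : Coh.HH X ω n →ₗ[A] A) {F : X.Modules}
    (φ : F ⟶ ω) : Coh.HH X F n →ₗ[A] A :=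
  t.comp (HHmap A φ n)

lemma Θ_apply (n : ℕ) {ω : X.Modules} (t : Coh.HH X ω n →ₗ[A] A) {F : X.Modules}
    (φ : F ⟶ ω) (x : Coh.HH X F n) : Θ A n t φ x = t (HHmap A φ n x) := rfl

lemma Θ_comp (n : ℕ) {ω : X.Modules} (t : Coh.HH X ω n →ₗ[A] A) {F G : X.Modules}
    (p : G ⟶ F) (φ : F ⟶ ω) : Θ A n t (p ≫ φ) = (Θ A n t φ).comp (HHmap A p n) := by
  rw [Θ, HHmap_comp, ← LinearMap.comp_assoc]
  rfl

lemma Θ_zero (n : ℕ) {ω : X.Modules} (t : Coh.HH X ω n →ₗ[A] A) (F : X.Modules) :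
    Θ A n t (0 : F ⟶ ω) = 0 := by
  have h := HHmap_sum A (∅ : Finset Unit) (fun _ => (0 : F ⟶ ω)) n
  rw [Finset.sum_empty, Finset.sum_empty] at h
  rw [Θ, h, LinearMap.comp_zero]

/-- `(ω, t)` represents the dual of `H^n(F)`. -/
def IsDualFor (n : ℕ) (ω : X.Modules) (t : Coh.HH X ω n →ₗ[A] A) (F : X.Modules) : Prop :=
  ∀ ψ : Coh.HH X F n →ₗ[A] A, ∃! φ : F ⟶ ω, ∀ x, ψ x = t (HHmap A φ n x)

lemma isDualFor_iff (n : ℕ) (ω : X.Modules) (t : Coh.HH X ω n →ₗ[A] A) (F : X.Modules) :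
    IsDualFor A n ω t F ↔ Function.Bijective (Θ A n t (F := F)) := by
  constructor
  · intro h
    constructor
    · intro φ φ' hφ
      obtain ⟨φ₀, -, hu⟩ := h (Θ A n t φ)
      rw [hu φ (fun x => rfl), hu φ' (fun x => by rw [hφ]; rfl)]
    · intro ψ
      obtain ⟨φ, hφ, -⟩ := h ψ
      exact ⟨φ, LinearMap.ext fun x => (hφ x).symm⟩
  · intro h ψ
    obtain ⟨φ, hφ⟩ := h.2 ψ
    refine ⟨φ, fun x => by rw [← hφ]; rfl, fun φ' hφ' => h.1 ?_⟩
    rw [hφ]
    exact LinearMap.ext fun x => (hφ' x).symm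

variable {A}

/-- injectivity of `Θ` for a finite constant direct sum. -/
theorem Θ_injective_sigma (n : ℕ) {ω : X.Modules} (t : Coh.HH X ω n →ₗ[A] A) (N : X.Modules)
    (K : ℕ) (h : Function.Injective (Θ A n t (F := N))) :
    Function.Injective (Θ A n t (F := ∐ fun _ : Fin K => N)) := by
  intro φ φ' hφ
  apply Limits.Sigma.hom_ext
  intro j
  apply h
  rw [Θ_comp, Θ_comp, hφ]

/-- surjectivity of `Θ` for a finite constant direct sum. -/
theorem Θ_surjective_sigma (n : ℕ) {ω : X.Modules} (t : Coh.HH X ω n →ₗ[A] A) (N : X.Modules)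
    (K : ℕ) (h : Function.Surjective (Θ A n t (F := N))) :
    Function.Surjective (Θ A n t (F := ∐ fun _ : Fin K => N)) := by
  intro ψ
  choose φj hφj using fun j : Fin K =>
    h (ψ.comp (HHmap A (Limits.Sigma.ι (fun _ : Fin K => N) j) n))
  refine ⟨Limits.Sigma.desc φj, ?_⟩
  have htot : ∑ j, (HHmap A (Limits.Sigma.ι (fun _ : Fin K => N) j) n).comp
      (HHmap A (SC.sigmaProj N K j) n) = LinearMap.id := by
    rw [← HHmap_id, ← SC.sigmaProj_total N K, HHmap_sum]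
    apply Finset.sum_congr rfl
    intro j _
    rw [HHmap_comp]
  have key : ∀ (L : Coh.HH X (∐ fun _ : Fin K => N) n →ₗ[A] A)
      (x : Coh.HH X (∐ fun _ : Fin K => N) n),
      L x = ∑ j, L (HHmap A (Limits.Sigma.ι (fun _ : Fin K => N) j) n
        (HHmap A (SC.sigmaProj N K j) n x)) := by
    intro L x
    conv_lhs => rw [← LinearMap.id_apply (R := A) x, ← htot, LinearMap.sum_apply, map_sum]
    rfl
  apply LinearMap.ext
  intro x
  rw [key (Θ A n t (Limits.Sigma.desc φj)) x, key ψ x]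
  apply Finset.sum_congr rfl
  intro j _
  have h1 := LinearMap.congr_fun (hφj j) (HHmap A (SC.sigmaProj N K j) n x)
  have h2 := LinearMap.congr_fun
    (Θ_comp A n t (Limits.Sigma.ι (fun _ : Fin K => N) j) (Limits.Sigma.desc φj))
    (HHmap A (SC.sigmaProj N K j) n x)
  rw [Limits.Sigma.ι_desc] at h2
  exact h2.symm.trans h1

theorem isDualFor_sigma (n : ℕ) {ω : X.Modules} (t : Coh.HH X ω n →ₗ[A] A) (N : X.Modules)
    (K : ℕ) (h : IsDualFor A n ω t N) : IsDualFor A n ω t (∐ fun _ : Fin K => N) := by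
  rw [isDualFor_iff] at h ⊢
  exact ⟨Θ_injective_sigma n t N K h.1, Θ_surjective_sigma n t N K h.2⟩

/-- `Θ` is injective on quotients. -/
theorem Θ_injective_of_epi (n : ℕ) {ω : X.Modules} (t : Coh.HH X ω n →ₗ[A] A) {E F : X.Modules}
    (p : E ⟶ F) [Epi p] (h : Function.Injective (Θ A n t (F := E))) :
    Function.Injective (Θ A n t (F := F)) := by
  intro φ φ' hφ
  rw [← cancel_epi p]
  apply h
  rw [Θ_comp, Θ_comp, hφ]

/-- surjectivity of `Θ` for the cokernel in a short exact sequence. -/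
theorem Θ_surjective_of_shortExact (n : ℕ) {ω : X.Modules} (t : Coh.HH X ω n →ₗ[A] A)
    {S : ShortComplex X.Modules} (hS : S.ShortExact)
    (hK : Function.Injective (Θ A n t (F := S.X₁)))
    (hE : Function.Surjective (Θ A n t (F := S.X₂)))
    (hvan : Subsingleton (Coh.HH X S.X₁ (n+1))) :
    Function.Surjective (Θ A n t (F := S.X₃)) := by
  intro ψ
  obtain ⟨φ₀, hφ₀⟩ := hE (ψ.comp (HHmap A S.g n))
  have h0 : S.f ≫ φ₀ = 0 := by
    apply hK
    rw [Θ_comp, hφ₀, Θ_zero, LinearMap.comp_assoc, ← HHmap_comp, S.zero]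
    have h := HHmap_sum A (∅ : Finset Unit) (fun _ => (0 : S.X₁ ⟶ S.X₃)) n
    rw [Finset.sum_empty, Finset.sum_empty] at h
    rw [h, LinearMap.comp_zero]
  haveI := hS.epi_g
  refine ⟨hS.exact.desc φ₀ h0, ?_⟩
  have hsurj : Function.Surjective (HHmap A S.g n) := by
    intro y
    exact exact₃ hS A n y (Subsingleton.elim _ _)
  apply LinearMap.ext
  intro y
  obtain ⟨x, rfl⟩ := hsurj y
  have h1 : Θ A n t (S.g ≫ hS.exact.desc φ₀ h0) = ψ.comp (HHmap A S.g n) := by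
    rw [hS.exact.g_desc, hφ₀]
  rw [Θ_comp] at h1
  exact LinearMap.congr_fun h1 x

/-- **dévissage for dualizing pairs**. -/
theorem isDualFor_of_devissage (n : ℕ) {ω : X.Modules} (t : Coh.HH X ω n →ₗ[A] A)
    (𝒞 : X.Modules → Prop)
    (hres : ∀ M, 𝒞 M → ∃ (S : ShortComplex X.Modules), S.ShortExact ∧ Nonempty (S.X₃ ≅ M) ∧
      𝒞 S.X₁ ∧ IsDualFor A n ω t S.X₂)
    (hvan : ∀ M, 𝒞 M → Subsingleton (Coh.HH X M (n+1)))
    (M : X.Modules) (hM : 𝒞 M) : IsDualFor A n ω t M := by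
  have hinj : ∀ M, 𝒞 M → Function.Injective (Θ A n t (F := M)) := by
    intro M hM
    obtain ⟨S, hS, ⟨e⟩, -, hE⟩ := hres M hM
    rw [isDualFor_iff] at hE
    haveI := hS.epi_g
    exact Θ_injective_of_epi n t (S.g ≫ e.hom) hE.1
  rw [isDualFor_iff]
  refine ⟨hinj M hM, ?_⟩
  obtain ⟨S, hS, ⟨e⟩, hK, hE⟩ := hres M hM
  rw [isDualFor_iff] at hE
  have h3 := Θ_surjective_of_shortExact n t hS (hinj _ hK) hE.2 (hvan _ hK)
  intro ψ
  obtain ⟨φ, hφ⟩ := h3 (ψ.comp (HHmap A e.hom n))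
  refine ⟨e.inv ≫ φ, ?_⟩
  rw [Θ_comp, hφ, LinearMap.comp_assoc, ← HHmap_comp, e.inv_hom_id, HHmap_id]
  rfl

end Groth.Agent.LD.CL
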