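import Groth.Agent.Lib.Lead.CohLES.Basic
import Groth.Agent.Lib.Lead.Alg.EulerLES

/-! # Additivity of the (truncated) Euler characteristic of `O_X`-modules. -/

universe u
open CategoryTheory Limits Opposite Abelian TopologicalSpace AlgebraicGeometry

namespace Groth.Agent.LD.CL

variable {X : Scheme.{u}} (A : Type u) [CommRing A] [X.Over (Spec (CommRingCat.of A))]

/-- the truncated Euler characteristic `Σ_{j ≤ r} (-1)^j length_A H^j(X, M)`. -/
noncomputable def chiLE (M : X.Modules) (r : ℕ) : ℤ :=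
  (Finset.range (r + 1)).sum fun j => (-1 : ℤ) ^ j * Alg.len A (Coh.HH X M j)

section LES

variable {S : ShortComplex X.Modules} (hS : S.ShortExact)

include hS in
theorem HHmap_f_injective : Function.Injective (HHmap A S.f 0) := by
  haveI : Mono ((SC.toAbF X).map S.f) := (SC.shortExact_toSheaf hS).mono_f
  intro x y hxy
  exact Ext.postcomp_mk₀_injective_of_mono.{u, u, u+1}
    (C := Sheaf (SC.JX X) AddCommGrpCat.{u}) _ ((SC.toAbF X).map S.f) hxy

theorem HHδ_g (i : ℕ) (x : Coh.HH X S.X₂ i) : HHδ hS A i (HHmap A S.g i x) = 0 := by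
  change (x.comp (Ext.mk₀ ((SC.toAbF X).map S.g)) (add_zero i)).comp
    (SC.shortExact_toSheaf hS).extClass rfl = 0
  rw [Ext.comp_assoc _ _ _ (add_zero i) (zero_add 1) (show i + 0 + 1 = i + 1 by omega)]
  have h := ShortComplex.ShortExact.comp_extClass.{u, u, u+1}
    (C := Sheaf (SC.JX X) AddCommGrpCat.{u}) (SC.shortExact_toSheaf hS)
  exact (congrArg (fun t => x.comp t (show i + 1 = i + 1 from rfl)) h).trans (Ext.comp_zero _ _ _ _ _)

theorem HHmap_f_δ (i : ℕ) (x : Coh.HH X S.X₃ i) : HHmap A S.f (i + 1) (HHδ hS A i x) = 0 := by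
  change (x.comp (SC.shortExact_toSheaf hS).extClass rfl).comp
    (Ext.mk₀ ((SC.toAbF X).map S.f)) (add_zero (i + 1)) = 0
  rw [Ext.comp_assoc _ _ _ rfl (add_zero 1) (show i + 1 + 0 = i + 1 by omega)]
  have h := ShortComplex.ShortExact.extClass_comp.{u, u, u+1}
    (C := Sheaf (SC.JX X) AddCommGrpCat.{u}) (SC.shortExact_toSheaf hS)
  exact (congrArg (fun t => x.comp t (show i + 1 = i + 1 from rfl)) h).trans (Ext.comp_zero _ _ _ _ _)

include hS in
/-- **additivity of the truncated Euler characteristic** on a short exact sequence, when the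
cohomology has finite length and `H^{r+1}` of the sub vanishes. -/
theorem chiLE_add (r : ℕ)
    (fin₁ : ∀ j, Module.length A (Coh.HH X S.X₁ j) ≠ ⊤)
    (fin₂ : ∀ j, Module.length A (Coh.HH X S.X₂ j) ≠ ⊤)
    (fin₃ : ∀ j, Module.length A (Coh.HH X S.X₃ j) ≠ ⊤)
    (hr : Subsingleton (Coh.HH X S.X₁ (r + 1))) :
    chiLE A S.X₂ r = chiLE A S.X₁ r + chiLE A S.X₃ r := by
  exact Alg.euler_add (R := A) (fun j => Coh.HH X S.X₁ j) (fun j => Coh.HH X S.X₂ j)
    (fun j => Coh.HH X S.X₃ j) (fun j => HHmap A S.f j) (fun j => HHmap A S.g j)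
    (fun j => HHδ hS A j) (HHmap_f_injective A hS) (fun j x => HHmap_g_f A j x)
    (fun j x => HHδ_g A hS j x) (fun j x => HHmap_f_δ A hS j x)
    (fun j y h => exact₂ hS A j y h) (fun j z h => exact₃ hS A j z h)
    (fun j x h => exact₁ hS A j x h) fin₁ fin₂ fin₃ r hr

end LES

end Groth.Agent.LD.CL
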