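import Groth.Agent.Lib.Lead.SC.SerreCrit

/-! # The long exact cohomology sequence of a short exact sequence of `O_X`-modules, with its
linear structure over the global functions and over a base ring. -/

universe u
open CategoryTheory Limits Opposite Abelian TopologicalSpace AlgebraicGeometry

namespace Groth.Agent.LD.CL

variable {X : Scheme.{u}}

/-- morphisms of modules commute with the multiplication by a global function. -/
lemma smulAb_naturality {M N : X.Modules} (φ : M ⟶ N) (r : Coh.Γtop X) :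
    Coh.smulAb M r ≫ (SheafOfModules.toSheaf X.ringCatSheaf).map φ =
      (SheafOfModules.toSheaf X.ringCatSheaf).map φ ≫ Coh.smulAb N r := by
  apply Sheaf.hom_ext
  ext U m
  exact (φ.val.app U).hom.map_smul (Coh.resTop X U r) m

/-- the map induced on cohomology by a morphism of modules, linear over the global functions. -/
noncomputable def HHmapΓ {M N : X.Modules} (φ : M ⟶ N) (i : ℕ) :
    Coh.HH X M i →ₗ[Coh.Γtop X] Coh.HH X N i where
  toFun := Sheaf.H.map ((SheafOfModules.toSheaf X.ringCatSheaf).map φ) i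
  map_add' := map_add _
  map_smul' r x := by
    change Sheaf.H.map ((SheafOfModules.toSheaf X.ringCatSheaf).map φ) i
      (Sheaf.H.map (Coh.smulAb M r) i x) =
      Sheaf.H.map (Coh.smulAb N r) i
        (Sheaf.H.map ((SheafOfModules.toSheaf X.ringCatSheaf).map φ) i x)
    rw [← Sheaf.H.map_comp_apply, ← Sheaf.H.map_comp_apply, smulAb_naturality]

/-- the map induced on cohomology by a morphism of modules, linear over a base ring. -/
noncomputable def HHmap (A : Type u) [CommRing A] [X.Over (Spec (CommRingCat.of A))]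
    {M N : X.Modules} (φ : M ⟶ N) (i : ℕ) : Coh.HH X M i →ₗ[A] Coh.HH X N i where
  toFun := Sheaf.H.map ((SheafOfModules.toSheaf X.ringCatSheaf).map φ) i
  map_add' := map_add _
  map_smul' a x := (HHmapΓ φ i).map_smul (Coh.toGlobal (X ↘ Spec (CommRingCat.of A)) a) x

lemma HHmap_apply (A : Type u) [CommRing A] [X.Over (Spec (CommRingCat.of A))]
    {M N : X.Modules} (φ : M ⟶ N) (i : ℕ) (x : Coh.HH X M i) :
    HHmap A φ i x = Sheaf.H.map ((SheafOfModules.toSheaf X.ringCatSheaf).map φ) i x := rfl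

lemma HHmap_id (A : Type u) [CommRing A] [X.Over (Spec (CommRingCat.of A))]
    (M : X.Modules) (i : ℕ) : HHmap A (𝟙 M) i = LinearMap.id := by
  ext x
  have h : (SheafOfModules.toSheaf X.ringCatSheaf).map (𝟙 M) = 𝟙 _ :=
    (SC.toAbF X).map_id M
  rw [HHmap_apply, h, Sheaf.H.map_id_apply]
  rfl

lemma HHmap_comp (A : Type u) [CommRing A] [X.Over (Spec (CommRingCat.of A))]
    {M N P : X.Modules} (φ : M ⟶ N) (ψ : N ⟶ P) (i : ℕ) :
    HHmap A (φ ≫ ψ) i = (HHmap A ψ i).comp (HHmap A φ i) := by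
  ext x
  have h : (SheafOfModules.toSheaf X.ringCatSheaf).map (φ ≫ ψ) =
      (SheafOfModules.toSheaf X.ringCatSheaf).map φ ≫
        (SheafOfModules.toSheaf X.ringCatSheaf).map ψ := (SC.toAbF X).map_comp φ ψ
  rw [HHmap_apply]
  exact (congrArg (fun t => Sheaf.H.map t i x) h).trans (Sheaf.H.map_comp_apply _ _ _)

lemma HHmap_add (A : Type u) [CommRing A] [X.Over (Spec (CommRingCat.of A))]
    {M N : X.Modules} (φ ψ : M ⟶ N) (i : ℕ) :
    HHmap A (φ + ψ) i = HHmap A φ i + HHmap A ψ i := by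
  ext x
  have h : (SheafOfModules.toSheaf X.ringCatSheaf).map (φ + ψ) =
      (SheafOfModules.toSheaf X.ringCatSheaf).map φ +
        (SheafOfModules.toSheaf X.ringCatSheaf).map ψ := (SC.toAbF X).map_add
  rw [HHmap_apply, h, Sheaf.H.map_add_apply]
  rfl

lemma HHmap_sum (A : Type u) [CommRing A] [X.Over (Spec (CommRingCat.of A))]
    {M N : X.Modules} {ι : Type*} (s : Finset ι) (φ : ι → (M ⟶ N)) (i : ℕ) :
    HHmap A (∑ j ∈ s, φ j) i = ∑ j ∈ s, HHmap A (φ j) i := by
  classical
  induction s using Finset.induction_on with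
  | empty =>
    rw [Finset.sum_empty, Finset.sum_empty]
    ext x
    have h : (SheafOfModules.toSheaf X.ringCatSheaf).map (0 : M ⟶ N) = 0 :=
      (SC.toAbF X).map_zero M N
    rw [HHmap_apply, h]
    change ((Sheaf.functorH _ i).map (0 : Coh.toAb M ⟶ Coh.toAb N)).hom x = 0
    rw [Functor.map_zero]
    rfl
  | insert a s ha ih =>
    rw [Finset.sum_insert ha, Finset.sum_insert ha, HHmap_add, ih]

section LES

variable {S : ShortComplex X.Modules} (hS : S.ShortExact)

/-- the connecting homomorphism, linear over the global functions. -/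
noncomputable def HHδΓ (i : ℕ) : Coh.HH X S.X₃ i →ₗ[Coh.Γtop X] Coh.HH X S.X₁ (i+1) where
  toFun x := x.comp (SC.shortExact_toSheaf hS).extClass rfl
  map_add' x y := Ext.add_comp _ _ _ _
  map_smul' r x := by
    let f : S.map (SC.toAbF X) ⟶ S.map (SC.toAbF X) :=
      { τ₁ := Coh.smulAb S.X₁ r
        τ₂ := Coh.smulAb S.X₂ r
        τ₃ := Coh.smulAb S.X₃ r
        comm₁₂ := smulAb_naturality S.f r
        comm₂₃ := smulAb_naturality S.g r }
    have h := ShortComplex.ShortExact.extClass_naturality.{u, u, u+1}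
      (C := Sheaf (SC.JX X) AddCommGrpCat.{u}) (SC.shortExact_toSheaf hS)
      (SC.shortExact_toSheaf hS) f
    change (x.comp (Ext.mk₀ (Coh.smulAb S.X₃ r)) (add_zero i)).comp
      (SC.shortExact_toSheaf hS).extClass rfl =
      (x.comp (SC.shortExact_toSheaf hS).extClass rfl).comp
        (Ext.mk₀ (Coh.smulAb S.X₁ r)) (add_zero (i+1))
    rw [Ext.comp_assoc _ _ _ (add_zero i) (zero_add 1) (show i + 0 + 1 = i + 1 by omega),
      Ext.comp_assoc _ _ _ rfl (add_zero 1) (show i + 1 + 0 = i + 1 by omega)]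
    congr 1
    exact h.symm

/-- the connecting homomorphism, linear over a base ring. -/
noncomputable def HHδ (A : Type u) [CommRing A] [X.Over (Spec (CommRingCat.of A))] (i : ℕ) :
    Coh.HH X S.X₃ i →ₗ[A] Coh.HH X S.X₁ (i+1) where
  toFun x := x.comp (SC.shortExact_toSheaf hS).extClass rfl
  map_add' x y := Ext.add_comp _ _ _ _
  map_smul' a x := (HHδΓ hS i).map_smul (Coh.toGlobal (X ↘ Spec (CommRingCat.of A)) a) x

variable (A : Type u) [CommRing A] [X.Over (Spec (CommRingCat.of A))]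

theorem exact₁ (i : ℕ) (x₁ : Coh.HH X S.X₁ (i+1)) (h : HHmap A S.f (i+1) x₁ = 0) :
    ∃ x₃ : Coh.HH X S.X₃ i, HHδ hS A i x₃ = x₁ :=
  Ext.covariant_sequence_exact₁.{u, u, u+1} (C := Sheaf (SC.JX X) AddCommGrpCat.{u}) _
    (SC.shortExact_toSheaf hS) x₁ h rfl

include hS in
theorem exact₂ (i : ℕ) (x₂ : Coh.HH X S.X₂ i) (h : HHmap A S.g i x₂ = 0) :
    ∃ x₁ : Coh.HH X S.X₁ i, HHmap A S.f i x₁ = x₂ :=
  Ext.covariant_sequence_exact₂.{u, u, u+1} (C := Sheaf (SC.JX X) AddCommGrpCat.{u}) _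
    (SC.shortExact_toSheaf hS) x₂ h

theorem exact₃ (i : ℕ) (x₃ : Coh.HH X S.X₃ i) (h : HHδ hS A i x₃ = 0) :
    ∃ x₂ : Coh.HH X S.X₂ i, HHmap A S.g i x₂ = x₃ :=
  Ext.covariant_sequence_exact₃.{u, u, u+1} (C := Sheaf (SC.JX X) AddCommGrpCat.{u}) _
    (SC.shortExact_toSheaf hS) x₃ rfl h

omit hS in
theorem HHmap_g_f (i : ℕ) (x : Coh.HH X S.X₁ i) : HHmap A S.g i (HHmap A S.f i x) = 0 := by
  rw [← LinearMap.comp_apply, ← HHmap_comp, S.zero]
  have := HHmap_sum A (∅ : Finset Unit) (fun _ => (0 : S.X₁ ⟶ S.X₃)) i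
  rw [Finset.sum_empty, Finset.sum_empty] at this
  rw [this]
  rfl

end LES

end Groth.Agent.LD.CL
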