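import Groth.Agent.Lib.Lead.CohLES.Vanish
import Groth.Agent.Lib.Lead.SC.SerreCrit

/-! # `H^0` and global sections; injectivity of `H^1(X₁) → H^1(X₂)` versus surjectivity of
`Γ(X₂) → Γ(X₃)`. -/

universe u
open CategoryTheory Limits Opposite Abelian TopologicalSpace AlgebraicGeometry

namespace Groth.Agent.LD.CL

variable {X : Scheme.{u}}

/-- `H^0(X, M) ≃+ Γ(X, M)`. -/
noncomputable def HH0Equiv (M : X.Modules) : Coh.HH X M 0 ≃+ Γ(M, ⊤) :=
  (SC.HEquiv (J := SC.JX X) isTerminalTop (Coh.toAb M) 0).trans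
    (SC.H0Equiv (J := SC.JX X) ⊤ (Coh.toAb M))

lemma HH0Equiv_map {M N : X.Modules} (φ : M ⟶ N) (x : Coh.HH X M 0) :
    HH0Equiv N (HHmapZ φ 0 x) = φ.app ⊤ (HH0Equiv M x) := by
  have h1 : HHmapZ φ 0 x = x.comp (Ext.mk₀ ((SheafOfModules.toSheaf X.ringCatSheaf).map φ))
      (add_zero 0) := rfl
  have h2 : (SC.HEquiv (J := SC.JX X) isTerminalTop (Coh.toAb N) 0) (HHmapZ φ 0 x) =
      ((SC.HEquiv (J := SC.JX X) isTerminalTop (Coh.toAb M) 0) x).comp
        (Ext.mk₀ ((SheafOfModules.toSheaf X.ringCatSheaf).map φ)) (add_zero 0) := by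
    rw [h1]
    change (Ext.mk₀ _).comp (x.comp _ (add_zero 0)) (zero_add 0) =
      ((Ext.mk₀ _).comp x (zero_add 0)).comp _ (add_zero 0)
    rw [Ext.comp_assoc_of_third_deg_zero]
  change SC.H0Equiv ⊤ (Coh.toAb N)
    ((SC.HEquiv (J := SC.JX X) isTerminalTop (Coh.toAb N) 0) (HHmapZ φ 0 x)) = _
  rw [h2]
  exact SC.H0Equiv_comp ⊤ _ _

variable {S : ShortComplex X.Modules} (hS : S.ShortExact)
include hS

/-- if `Γ(X₂) → Γ(X₃)` is surjective then `H^1(X₁) → H^1(X₂)` is injective. -/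
theorem injective_HHmapZ_one_of_surjective (h : Function.Surjective (S.g.app ⊤)) :
    Function.Injective (HHmapZ S.f 1) := by
  rw [injective_iff_map_eq_zero]
  intro x₁ hx
  obtain ⟨x₃, hx₃⟩ := Ext.covariant_sequence_exact₁.{u, u, u+1}
    (C := Sheaf (SC.JX X) AddCommGrpCat.{u}) _ (SC.shortExact_toSheaf hS) x₁ hx rfl
  obtain ⟨t, ht⟩ := h (HH0Equiv S.X₃ x₃)
  have h3 : x₃ = HHmapZ S.g 0 ((HH0Equiv S.X₂).symm t) := by
    apply (HH0Equiv S.X₃).injective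
    rw [HH0Equiv_map, AddEquiv.apply_symm_apply, ht]
  rw [← hx₃, h3]
  change (((HH0Equiv S.X₂).symm t).comp (Ext.mk₀ (S.map (SC.toAbF X)).g) (add_zero 0)).comp
    (SC.shortExact_toSheaf hS).extClass _ = 0
  rw [Ext.comp_assoc_of_second_deg_zero]
  have h4 := (SC.shortExact_toSheaf hS).comp_extClass
  refine (congrArg (fun z => Ext.comp ((HH0Equiv S.X₂).symm t) z (zero_add 1)) h4).trans ?_
  exact Ext.comp_zero.{u, u, u+1} (C := Sheaf (SC.JX X) AddCommGrpCat.{u}) _ _ _ _ _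

/-- if `H^1(X₁) → H^1(X₂)` is injective then `Γ(X₂) → Γ(X₃)` is surjective. -/
theorem surjective_app_top_of_injective (h : Function.Injective (HHmapZ S.f 1)) :
    Function.Surjective (S.g.app ⊤) := by
  intro t
  set x₃ := (HH0Equiv S.X₃).symm t with hx₃
  have h1 : HHmapZ S.f 1 (x₃.comp (SC.shortExact_toSheaf hS).extClass (zero_add 1)) = 0 := by
    change (x₃.comp (SC.shortExact_toSheaf hS).extClass (zero_add 1)).comp
      (Ext.mk₀ (S.map (SC.toAbF X)).f) (add_zero 1) = 0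
    rw [Ext.comp_assoc_of_third_deg_zero]
    have h4 := (SC.shortExact_toSheaf hS).extClass_comp
    refine (congrArg (fun z => Ext.comp x₃ z (zero_add 1)) h4).trans ?_
    exact Ext.comp_zero.{u, u, u+1} (C := Sheaf (SC.JX X) AddCommGrpCat.{u}) _ _ _ _ _
  have h2 : x₃.comp (SC.shortExact_toSheaf hS).extClass (zero_add 1) = 0 :=
    h (h1.trans (map_zero _).symm)
  obtain ⟨x₂, hx₂⟩ := Ext.covariant_sequence_exact₃.{u, u, u+1}
    (C := Sheaf (SC.JX X) AddCommGrpCat.{u}) _ (SC.shortExact_toSheaf hS) x₃ rfl h2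
  refine ⟨HH0Equiv S.X₂ x₂, ?_⟩
  have h3 : HHmapZ S.g 0 x₂ = x₃ := hx₂
  rw [← HH0Equiv_map, h3, hx₃, AddEquiv.apply_symm_apply]

end Groth.Agent.LD.CL
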