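import Groth.Agent.Lib.Lead.SC.PushCmp
import Groth.Agent.Lib.Lead.CohLES.Basic

/-! # `H^n(X, G) ≃ H^n(P, i_* G)` for a closed immersion `i : X ⟶ P`, naturally and linearly. -/

universe u
open CategoryTheory Limits Opposite AlgebraicGeometry TopologicalSpace

namespace Groth.Agent.LD.CL

variable {X P : Scheme.{u}} (i : X ⟶ P) [IsClosedImmersion i]

/-- the comparison map `H^n(X, G) → H^n(P, i_* G)`. -/
noncomputable def HHpush (G : X.Modules) (n : ℕ) :
    Coh.HH X G n →+ Coh.HH P ((Scheme.Modules.pushforward i).obj G) n :=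
  SC.Hcmp i.base i.isClosedEmbedding (Coh.toAb G) n

theorem HHpush_bijective (G : X.Modules) (n : ℕ) : Function.Bijective (HHpush i G n) :=
  SC.Hcmp_bijective i.base i.isClosedEmbedding (Coh.toAb G) n

lemma HHpush_map {G G' : X.Modules} (φ : G ⟶ G') (n : ℕ) (x : Coh.HH X G n) :
    HHpush i G' n (Sheaf.H.map ((SheafOfModules.toSheaf X.ringCatSheaf).map φ) n x) =
      Sheaf.H.map ((SheafOfModules.toSheaf P.ringCatSheaf).map
        ((Scheme.Modules.pushforward i).map φ)) n (HHpush i G n x) :=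
  SC.Hcmp_map i.base i.isClosedEmbedding ((SheafOfModules.toSheaf X.ringCatSheaf).map φ) n x

lemma pushAb_smulAb (G : X.Modules) (r : Coh.Γtop P) :
    (SC.pushAb i.base).map (Coh.smulAb G (i.appTop r)) =
      Coh.smulAb ((Scheme.Modules.pushforward i).obj G) r := by
  ext U m
  have h2 := congrArg (fun φ => φ.hom r) (i.naturality (homOfLE (le_top : U.unop ≤ ⊤)).op)
  simp only [CommRingCat.hom_comp, RingHom.coe_comp, Function.comp_apply] at h2
  show @HSMul.hSMul (X.ringCatSheaf.obj.obj (op (i ⁻¹ᵁ U.unop))) (G.val.obj (op (i ⁻¹ᵁ U.unop)))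
      (G.val.obj (op (i ⁻¹ᵁ U.unop))) _ (Coh.resTop X (op (i ⁻¹ᵁ U.unop)) (i.appTop r)) m =
    @HSMul.hSMul (X.ringCatSheaf.obj.obj (op (i ⁻¹ᵁ U.unop))) (G.val.obj (op (i ⁻¹ᵁ U.unop)))
      (G.val.obj (op (i ⁻¹ᵁ U.unop))) _ (i.app U.unop (Coh.resTop P U r)) m
  congr 1
  exact h2.symm

lemma HHpush_smulΓ (G : X.Modules) (n : ℕ) (r : Coh.Γtop P) (x : Coh.HH X G n) :
    HHpush i G n ((show Coh.Γtop X from i.appTop r) • x) = r • HHpush i G n x := by
  change SC.Hcmp i.base i.isClosedEmbedding (Coh.toAb G) n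
      (Sheaf.H.map (Coh.smulAb G (i.appTop r)) n x) =
    Sheaf.H.map (Coh.smulAb ((Scheme.Modules.pushforward i).obj G) r) n _
  rw [SC.Hcmp_map, pushAb_smulAb]
  rfl

section Linear
variable (A : Type u) [CommRing A] [X.Over (Spec (CommRingCat.of A))]
  [P.Over (Spec (CommRingCat.of A))] [i.IsOver (Spec (CommRingCat.of A))]

lemma toGlobal_eq_appTop (a : A) :
    Coh.toGlobal (X ↘ Spec (CommRingCat.of A)) a =
      i.appTop (Coh.toGlobal (P ↘ Spec (CommRingCat.of A)) a) := by
  have h : i ≫ (P ↘ Spec (CommRingCat.of A)) = X ↘ Spec (CommRingCat.of A) :=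
    comp_over i (Spec (CommRingCat.of A))
  rw [← h]
  rfl

/-- **`H^n(X, G) ≃ H^n(P, i_* G)`, linearly over the base ring.** -/
noncomputable def HHpushEquiv (G : X.Modules) (n : ℕ) :
    Coh.HH X G n ≃ₗ[A] Coh.HH P ((Scheme.Modules.pushforward i).obj G) n :=
  LinearEquiv.ofBijective
    { toFun := HHpush i G n
      map_add' := map_add _
      map_smul' := fun a x => by
        change HHpush i G n ((Coh.toGlobal (X ↘ Spec (CommRingCat.of A)) a) • x) =
          (Coh.toGlobal (P ↘ Spec (CommRingCat.of A)) a) • HHpush i G n x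
        rw [toGlobal_eq_appTop i A a]
        exact HHpush_smulΓ i G n _ x }
    (HHpush_bijective i G n)

lemma HHpushEquiv_apply (G : X.Modules) (n : ℕ) (x : Coh.HH X G n) :
    HHpushEquiv i A G n x = HHpush i G n x := rfl

lemma HHpushEquiv_map {G G' : X.Modules} (φ : G ⟶ G') (n : ℕ) (x : Coh.HH X G n) :
    HHpushEquiv i A G' n (HHmap A φ n x) =
      HHmap A ((Scheme.Modules.pushforward i).map φ) n (HHpushEquiv i A G n x) :=
  HHpush_map i φ n x

end Linear

/-- vanishing transfers. -/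
lemma subsingleton_HH_push_iff (G : X.Modules) (n : ℕ) :
    Subsingleton (Coh.HH P ((Scheme.Modules.pushforward i).obj G) n) ↔
      Subsingleton (Coh.HH X G n) :=
  (Equiv.ofBijective _ (HHpush_bijective i G n)).subsingleton_congr.symm

end Groth.Agent.LD.CL
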