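import Groth.Agent.Lib.Lead.CohLES.H0

/-! # Linearity of `H^0(X, M) ≃ Γ(X, M)` and finite generation of global sections. -/

universe u
open CategoryTheory Limits Opposite Abelian TopologicalSpace AlgebraicGeometry

namespace Groth.Agent.LD.CL

variable {X : Scheme.{u}}

lemma HH0Equiv_mapAb {M N : X.Modules} (ψ : Coh.toAb M ⟶ Coh.toAb N) (x : Coh.HH X M 0) :
    HH0Equiv N (Sheaf.H.map ψ 0 x) = ψ.hom.app (op ⊤) (HH0Equiv M x) := by
  have h1 : Sheaf.H.map ψ 0 x = x.comp (Ext.mk₀ ψ) (add_zero 0) := rfl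
  have h2 : (SC.HEquiv (J := SC.JX X) isTerminalTop (Coh.toAb N) 0) (Sheaf.H.map ψ 0 x) =
      ((SC.HEquiv (J := SC.JX X) isTerminalTop (Coh.toAb M) 0) x).comp
        (Ext.mk₀ ψ) (add_zero 0) := by
    rw [h1]
    change (Ext.mk₀ _).comp (x.comp _ (add_zero 0)) (zero_add 0) =
      ((Ext.mk₀ _).comp x (zero_add 0)).comp _ (add_zero 0)
    rw [Ext.comp_assoc_of_third_deg_zero]
  change SC.H0Equiv ⊤ (Coh.toAb N)
    ((SC.HEquiv (J := SC.JX X) isTerminalTop (Coh.toAb N) 0) (Sheaf.H.map ψ 0 x)) = _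
  rw [h2]
  exact SC.H0Equiv_comp ⊤ _ _

lemma HH0Equiv_smul (M : X.Modules) (r : Coh.Γtop X) (x : Coh.HH X M 0) :
    HH0Equiv M (r • x) = (show Γ(X, ⊤) from r) • HH0Equiv M x := by
  have h1 : r • x = Sheaf.H.map (Coh.smulAb M r) 0 x := rfl
  rw [h1, HH0Equiv_mapAb]
  have h2 := Coh.smulAb_app M r (op ⊤) (HH0Equiv M x)
  refine h2.trans ?_
  have h3 : Coh.resTop X (op ⊤) r = r := by
    change (X.ringCatSheaf.obj.map (𝟙 (op (⊤ : X.Opens)))).hom r = r
    rw [X.ringCatSheaf.obj.map_id]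
    rfl
  rw [h3]
  rfl

/-- if `H^0(X, M)` is a finite module over a base ring, the global sections are spanned by finitely
many sections over the global functions. -/
theorem exists_span_top_of_finite (A : Type u) [CommRing A] [X.Over (Spec (CommRingCat.of A))]
    (M : X.Modules) (h : Module.Finite A (Coh.HH X M 0)) :
    ∃ (b : ℕ) (σ : Fin b → Γ(M, ⊤)), ∀ a : Γ(M, ⊤), ∃ c : Fin b → Γ(X, ⊤), a = ∑ j, c j • σ j := by
  obtain ⟨b, s, hs⟩ := h.exists_fin
  refine ⟨b, fun j => HH0Equiv M (s j), fun a => ?_⟩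
  have hx : (HH0Equiv M).symm a ∈ Submodule.span A (Set.range s) := by rw [hs]; trivial
  obtain ⟨c, hc⟩ := (Submodule.mem_span_range_iff_exists_fun A).1 hx
  refine ⟨fun j => (show Γ(X, ⊤) from Coh.toGlobal (X ↘ Spec (CommRingCat.of A)) (c j)), ?_⟩
  have h1 : a = HH0Equiv M (∑ j, c j • s j) := by rw [hc, AddEquiv.apply_symm_apply]
  rw [h1, map_sum]
  refine Finset.sum_congr rfl (fun j _ => ?_)
  exact HH0Equiv_smul M (Coh.toGlobal (X ↘ Spec (CommRingCat.of A)) (c j)) (s j)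

end Groth.Agent.LD.CL
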