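import Groth.Agent.Lib.Lead.CohLES.Dual
import Groth.Prelude.Def_KLin

/-! # Linearity of the duality map `Θ`. -/

universe u
open CategoryTheory Limits Opposite Abelian TopologicalSpace AlgebraicGeometry

namespace Groth.Agent.LD.CL

variable {X : Scheme.{u}} (A : Type u) [CommRing A] [X.Over (Spec (CommRingCat.of A))]

lemma toSheaf_map_smulModΓ (M : X.Modules) (r : Coh.Γtop X) :
    (SheafOfModules.toSheaf X.ringCatSheaf).map (Formal.smulModΓ M r) = Coh.smulAb M r := rfl

/-- multiplication by a scalar induces the multiplication by the scalar on cohomology. -/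
lemma HHmap_smulMod (M : X.Modules) (a : A) (i : ℕ) (x : Coh.HH X M i) :
    HHmap A (Formal.smulMod A M a) i x = a • x := rfl

lemma HHmap_smul {M N : X.Modules} (a : A) (φ : M ⟶ N) (i : ℕ) :
    HHmap A (a • φ) i = a • HHmap A φ i := by
  apply LinearMap.ext
  intro x
  rw [KLin.smul_def, HHmap_comp, LinearMap.comp_apply, HHmap_smulMod, LinearMap.map_smul]
  rfl

/-- the duality map as a linear map. -/
noncomputable def ΘLin (n : ℕ) {ω : X.Modules} (t : Coh.HH X ω n →ₗ[A] A) (F : X.Modules) :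
    (F ⟶ ω) →ₗ[A] Module.Dual A (Coh.HH X F n) where
  toFun φ := Θ A n t φ
  map_add' φ ψ := by
    change t.comp (HHmap A (φ + ψ) n) = t.comp (HHmap A φ n) + t.comp (HHmap A ψ n)
    rw [HHmap_add, LinearMap.comp_add]
  map_smul' a φ := by
    change t.comp (HHmap A (a • φ) n) = a • t.comp (HHmap A φ n)
    rw [HHmap_smul, LinearMap.comp_smul]

lemma ΘLin_apply (n : ℕ) {ω : X.Modules} (t : Coh.HH X ω n →ₗ[A] A) (F : X.Modules)
    (φ : F ⟶ ω) : ΘLin A n t F φ = Θ A n t φ := rfl

/-- the duality map as a linear equivalence, for a dualizing pair. -/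
noncomputable def ΘEquiv (n : ℕ) {ω : X.Modules} (t : Coh.HH X ω n →ₗ[A] A) (F : X.Modules)
    (h : IsDualFor A n ω t F) : (F ⟶ ω) ≃ₗ[A] Module.Dual A (Coh.HH X F n) :=
  LinearEquiv.ofBijective (ΘLin A n t F) ((isDualFor_iff A n ω t F).mp h)

end Groth.Agent.LD.CL
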