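import Mathlib
import Groth.Agent.Lib.Lead.CohLES.Euler
import Groth.Agent.Lib.Lead.CohLES.Finite
import Groth.Agent.Lib.Lead.QC.SerreSupp
import Groth.Agent.S0002
open AlgebraicGeometry CategoryTheory Limits TopologicalSpace Opposite

/-!
Dimension bounds in the long exact cohomology sequence on a proper scheme over a field,
and the resulting bound for a left-bounded exact sequence of coherent modules (S17630).
-/

namespace Groth.Agent.LD.CL

universe u

section Lin
variable {k V₁ V₂ V₃ : Type*} [Field k] [AddCommGroup V₁] [AddCommGroup V₂] [AddCommGroup V₃]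
  [Module k V₁] [Module k V₂] [Module k V₃]

theorem finrank_le_add_of_exact [Module.Finite k V₁] [Module.Finite k V₃]
    (f : V₁ →ₗ[k] V₂) (g : V₂ →ₗ[k] V₃) (h : ∀ x, g x = 0 → ∃ y, f y = x) :
    Module.finrank k V₂ ≤ Module.finrank k V₁ + Module.finrank k V₃ := by
  haveI : Module.Finite k V₂ := finite_of_exact f g h
  have h1 := LinearMap.finrank_range_add_finrank_ker g
  have h2 : Module.finrank k (LinearMap.ker g) ≤ Module.finrank k (LinearMap.range f) := by
    apply Submodule.finrank_mono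
    intro x hx
    obtain ⟨y, hy⟩ := h x hx
    exact ⟨y, hy⟩
  have h3 := LinearMap.finrank_range_le f
  have h4 := Submodule.finrank_le (LinearMap.range g)
  omega

theorem finrank_le_of_injective' [Module.Finite k V₂]
    (f : V₁ →ₗ[k] V₂) (h : Function.Injective f) :
    Module.finrank k V₁ ≤ Module.finrank k V₂ :=
  LinearMap.finrank_le_finrank_of_injective h

end Lin

variable (k : Type u) [Field k] {X : Scheme.{u}} [X.Over (Spec (CommRingCat.of k))]
  [IsProper (X ↘ Spec (CommRingCat.of k))]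

/-- `hⁱ(M) = dim_k Hⁱ(X, M)`. -/
noncomputable irreducible_def hh (M : X.Modules) (i : ℕ) : ℕ := Module.finrank k (Coh.HH X M i)

variable {S : ShortComplex X.Modules} (hS : S.ShortExact)

include hS in
theorem hh_mid_le (h₁ : Coh.IsCoh S.X₁) (h₃ : Coh.IsCoh S.X₃) (i : ℕ) :
    hh k S.X₂ i ≤ hh k S.X₁ i + hh k S.X₃ i := by
  haveI := Groth.Agent.S0002.result k X S.X₁ h₁ i
  haveI := Groth.Agent.S0002.result k X S.X₃ h₃ i
  rw [hh_def, hh_def, hh_def]
  exact finrank_le_add_of_exact (HHmap k S.f i) (HHmap k S.g i) (fun x hx => exact₂ hS k i x hx)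

include hS in
theorem hh_left_zero_le (h₂ : Coh.IsCoh S.X₂) : hh k S.X₁ 0 ≤ hh k S.X₂ 0 := by
  haveI := Groth.Agent.S0002.result k X S.X₂ h₂ 0
  rw [hh_def, hh_def]
  exact finrank_le_of_injective' (HHmap k S.f 0) (HHmap_f_injective k hS)

include hS in
theorem hh_left_succ_le (h₂ : Coh.IsCoh S.X₂) (h₃ : Coh.IsCoh S.X₃) (i : ℕ) :
    hh k S.X₁ (i + 1) ≤ hh k S.X₃ i + hh k S.X₂ (i + 1) := by
  haveI := Groth.Agent.S0002.result k X S.X₂ h₂ (i + 1)
  haveI := Groth.Agent.S0002.result k X S.X₃ h₃ i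
  rw [hh_def, hh_def, hh_def]
  exact finrank_le_add_of_exact (HHδ hS k i) (HHmap k S.f (i + 1))
    (fun x hx => exact₁ hS k i x hx)

end Groth.Agent.LD.CL
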