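import Mathlib
import Groth.Agent.Lib.Lead.CohLES.DimBound
import Groth.Agent.Lib.Lead.QC.BiprodSec
import Groth.Agent.Lib.Lead.PN.ClosedSub
open AlgebraicGeometry CategoryTheory Limits TopologicalSpace Opposite

/-!
The dimension bound for a left-bounded exact sequence of coherent modules on a proper scheme over a
field (S17630).
-/

namespace Groth.Agent.LD.CL

universe u

variable (k : Type u) [Field k] {X : Scheme.{u}} [X.Over (Spec (CommRingCat.of k))]
  [IsProper (X ↘ Spec (CommRingCat.of k))]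
  (C : ℕ → X.Modules) (hC : ∀ j, Coh.IsCoh (C j)) (d : ∀ j, C j ⟶ C (j + 1))
  (hd : ∀ j, d j ≫ d (j + 1) = 0)
  (hex : ∀ j, (ShortComplex.mk (d j) (d (j + 1)) (hd j)).Exact)

include hC hex in
theorem hh_kernel_le (m : ℕ) : ∀ j : ℕ,
    hh k (kernel (d j)) m ≤ (Finset.range (m + 1)).sum (fun t => hh k (C (j + t)) (m - t)) := by
  haveI : IsLocallyNoetherian X :=
    LocallyOfFiniteType.isLocallyNoetherian (X ↘ Spec (CommRingCat.of k))
  have hZ : ∀ j, Coh.IsCoh (kernel (d j)) := fun j => QC.isCoh_kernel (d j) (hC j) (hC (j + 1))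
  induction m with
  | zero =>
    intro j
    have hS := QC.shortExact_kernel_lift (d j) (d (j + 1)) (hd j) (hex j)
    have h : hh k (kernel (d j)) 0 ≤ hh k (C j) 0 := hh_left_zero_le k hS (hC j)
    rw [Finset.sum_range_one]
    exact h
  | succ m ih =>
    intro j
    have hS := QC.shortExact_kernel_lift (d j) (d (j + 1)) (hd j) (hex j)
    have h : hh k (kernel (d j)) (m + 1) ≤
        hh k (kernel (d (j + 1))) m + hh k (C j) (m + 1) :=
      hh_left_succ_le k hS (hC j) (hZ (j + 1)) m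
    have h2 := ih (j + 1)
    rw [Finset.sum_range_succ']
    have h3 : (Finset.range (m + 1)).sum (fun t => hh k (C (j + (t + 1))) (m + 1 - (t + 1))) =
        (Finset.range (m + 1)).sum (fun t => hh k (C (j + 1 + t)) (m - t)) := by
      apply Finset.sum_congr rfl
      intro t _
      have e1 : j + (t + 1) = j + 1 + t := by omega
      have e2 : m + 1 - (t + 1) = m - t := by omega
      rw [e1, e2]
    rw [h3]
    exact h.trans (Nat.add_le_add_right h2 _)

omit [IsProper (X ↘ Spec (CommRingCat.of k))] in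
lemma sum_Icc_reindex (g : ℕ → ℕ → ℕ) (i : ℕ) :
    (Finset.Icc 1 (i + 1)).sum (fun j => g (j + 1) (i + 1 - j)) =
      (Finset.range (i + 1)).sum (fun t => g (2 + t) (i - t)) := by
  have : Finset.Icc 1 (i + 1) = Finset.Ico 1 (i + 2) := by
    ext x; simp only [Finset.mem_Icc, Finset.mem_Ico]; omega
  rw [this, Finset.sum_Ico_eq_sum_range]
  apply Finset.sum_congr (by simp)
  intro t _
  have e1 : 1 + t + 1 = 2 + t := by omega
  have e2 : i + 1 - (1 + t) = i - t := by omega
  rw [e1, e2]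

include hC hex in
theorem dim_bound_nat [Mono (d 0)] (i : ℕ) :
    hh k (C 1) i ≤ hh k (C 0) i +
        (Finset.Icc 1 (i + 1)).sum (fun j => hh k (C (j + 1)) (i + 1 - j)) ∧
      hh k (C 0) i ≤ hh k (C 1) i +
        (Finset.Icc 1 i).sum (fun j => hh k (C (j + 1)) (i - j)) := by
  haveI : IsLocallyNoetherian X :=
    LocallyOfFiniteType.isLocallyNoetherian (X ↘ Spec (CommRingCat.of k))
  have hZ : ∀ j, Coh.IsCoh (kernel (d j)) := fun j => QC.isCoh_kernel (d j) (hC j) (hC (j + 1))
  -- `C 0 ≅ Z 1`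
  haveI : Epi (kernel.lift (d 1) (d 0) (hd 0)) := (hex 0).epi_kernelLift
  haveI : Mono (kernel.lift (d 1) (d 0) (hd 0)) := by
    apply mono_of_mono_fac (kernel.lift_ι (d 1) (d 0) (hd 0))
  haveI : IsIso (kernel.lift (d 1) (d 0) (hd 0)) := isIso_of_mono_of_epi _
  have e0 : hh k (C 0) i = hh k (kernel (d 1)) i :=
    by rw [hh_def, hh_def]; exact (HHisoEquiv k (asIso (kernel.lift (d 1) (d 0) (hd 0))) i).finrank_eq
  have hS := QC.shortExact_kernel_lift (d 1) (d 2) (hd 1) (hex 1)
  have hmid : hh k (C 1) i ≤ hh k (kernel (d 1)) i + hh k (kernel (d 2)) i :=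
    hh_mid_le k hS (hZ 1) (hZ 2) i
  have hb1 := hh_kernel_le k C hC d hd hex i 2
  rw [← sum_Icc_reindex (fun a b => hh k (C a) b) i] at hb1
  refine ⟨?_, ?_⟩
  · rw [e0]
    exact hmid.trans (Nat.add_le_add_left hb1 _)
  · rw [e0]
    rcases i with _ | m
    · have hleft : hh k (kernel (d 1)) 0 ≤ hh k (C 1) 0 := hh_left_zero_le k hS (hC 1)
      exact hleft.trans (Nat.le_add_right _ _)
    · have hleft : hh k (kernel (d 1)) (m + 1) ≤ hh k (kernel (d 2)) m + hh k (C 1) (m + 1) :=
        hh_left_succ_le k hS (hC 1) (hZ 2) m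
      have hb2 := hh_kernel_le k C hC d hd hex m 2
      rw [← sum_Icc_reindex (fun a b => hh k (C a) b) m] at hb2
      rw [Nat.add_comm (hh k (C 1) (m + 1))]
      exact hleft.trans (Nat.add_le_add_right hb2 _)

include hC hex in
theorem dim_bound [Mono (d 0)] (i : ℕ) :
    |(Module.finrank k (Coh.HH X (C 0) i) : ℤ) - (Module.finrank k (Coh.HH X (C 1) i) : ℤ)| ≤
      (Finset.Icc 1 (i + 1)).sum
          (fun j => ((Module.finrank k (Coh.HH X (C (j + 1)) (i + 1 - j))) : ℤ)) +
        (Finset.Icc 1 i).sum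
          (fun j => ((Module.finrank k (Coh.HH X (C (j + 1)) (i - j))) : ℤ)) := by
  obtain ⟨h1, h2⟩ := dim_bound_nat k C hC d hd hex i
  simp only [hh_def] at h1 h2
  rw [← Nat.cast_sum, ← Nat.cast_sum]
  generalize Module.finrank k (Coh.HH X (C 0) i) = a at *
  generalize Module.finrank k (Coh.HH X (C 1) i) = b at *
  generalize (Finset.Icc 1 (i + 1)).sum
    (fun j => Module.finrank k (Coh.HH X (C (j + 1)) (i + 1 - j))) = s1 at *
  generalize (Finset.Icc 1 i).sum
    (fun j => Module.finrank k (Coh.HH X (C (j + 1)) (i - j))) = s2 at *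
  rw [abs_le]
  constructor <;> omega

end Groth.Agent.LD.CL
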