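import Mathlib.Algebra.Homology.DerivedCategory.Ext.MapBijective

/-! # Comparison of `Ext` groups along an exact functor, with a change of the first variable.

For an exact functor `F : C ⥤ D`, objects `A : C`, `A' : D` and `η : A' ⟶ F A`, the maps
`Ext^n(A, G) → Ext^n(F A, F G) → Ext^n(A', F G)` are bijective for all `n` and `G` as soon as they
are in degree `0` and `Ext^{n+1}(A', F I) = 0` for injective `I`. -/

universe w w' v v' u u'

namespace Groth.Agent.LD.CL

open CategoryTheory Limits Abelian

variable {C : Type u} [Category.{v} C] [Abelian C]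
variable {D : Type u'} [Category.{v'} D] [Abelian D]
variable (F : C ⥤ D) [F.Additive] [PreservesFiniteLimits F] [PreservesFiniteColimits F]
variable [HasExt.{w} C] [HasExt.{w'} D]
variable {A : C} {A' : D} (η : A' ⟶ F.obj A)

/-- the comparison map `Ext^n(A, G) → Ext^n(A', F G)`. -/
noncomputable def extCmp (G : C) (n : ℕ) : Ext.{w} A G n →+ Ext.{w'} A' (F.obj G) n :=
  ((Ext.mk₀ η).precomp (F.obj G) (zero_add n)).comp (F.mapExtAddHom A G n)

lemma extCmp_apply (G : C) (n : ℕ) (x : Ext.{w} A G n) :
    extCmp F η G n x = (Ext.mk₀ η).comp (x.mapExactFunctor F) (zero_add n) := rfl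

/-- naturality in the second variable. -/
lemma extCmp_comp_mk₀ {G G' : C} (φ : G ⟶ G') (n : ℕ) (x : Ext.{w} A G n) :
    extCmp F η G' n (x.comp (Ext.mk₀ φ) (add_zero n)) =
      (extCmp F η G n x).comp (Ext.mk₀ (F.map φ)) (add_zero n) := by
  rw [extCmp_apply, extCmp_apply, Ext.mapExactFunctor_comp, Ext.mapExactFunctor_mk₀,
    Ext.comp_assoc_of_third_deg_zero]

/-- compatibility with connecting homomorphisms. -/
lemma extCmp_comp_extClass {S : ShortComplex C} (hS : S.ShortExact) (n m : ℕ) (h : n + 1 = m)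
    (x : Ext.{w} A S.X₃ n) :
    extCmp F η S.X₁ m (x.comp hS.extClass h) =
      (extCmp F η S.X₃ n x).comp (hS.map_of_exact F).extClass h := by
  rw [extCmp_apply, extCmp_apply, Ext.mapExactFunctor_comp, Ext.mapExactFunctor_extClass]
  exact (Ext.comp_assoc (Ext.mk₀ η) (x.mapExactFunctor F) (hS.map_of_exact F).extClass
    (zero_add n) h (by omega)).symm

lemma extCmp_mk₀ (G : C) (φ : A ⟶ G) :
    extCmp F η G 0 (Ext.mk₀ φ) = Ext.mk₀ (η ≫ F.map φ) := by
  rw [extCmp_apply, Ext.mapExactFunctor_mk₀, Ext.mk₀_comp_mk₀]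

variable [EnoughInjectives C]

/-- **the comparison maps are bijective** as soon as they are in degree `0` and `F` sends
injectives to `Ext(A', -)`-acyclic objects. -/
theorem extCmp_bijective
    (h0 : ∀ G : C, Function.Bijective (fun φ : A ⟶ G => η ≫ F.map φ))
    (hI : ∀ (I : C) [Injective I] (n : ℕ), Subsingleton (Ext.{w'} A' (F.obj I) (n + 1))) :
    ∀ (n : ℕ) (G : C), Function.Bijective (extCmp F η G n) := by
  intro n
  induction n with
  | zero =>
    intro G
    have h1 : ⇑(extCmp F η G 0) =
        (Ext.mk₀ : (A' ⟶ F.obj G) → Ext.{w'} A' (F.obj G) 0) ∘ (fun φ : A ⟶ G => η ≫ F.map φ) ∘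
          (Ext.homEquiv₀ : Ext.{w} A G 0 ≃ (A ⟶ G)) := by
      funext x
      conv_lhs => rw [← Ext.mk₀_homEquiv₀_apply x]
      rw [extCmp_mk₀]
      rfl
    rw [h1]
    exact (Ext.mk₀_bijective A' (F.obj G)).comp ((h0 G).comp (Ext.homEquiv₀).bijective)
  | succ n hn =>
    intro G
    let I : InjectivePresentation G := Classical.arbitrary _
    let S := ShortComplex.mk _ _ (cokernel.condition I.f)
    have hS : S.ShortExact := { exact := ShortComplex.exact_cokernel I.f }
    haveI : Injective S.X₂ := I.injective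
    haveI : Subsingleton (Ext.{w'} A' ((S.map F).X₂) (n + 1)) := hI S.X₂ n
    haveI : Subsingleton (Ext.{w} A S.X₂ (n + 1)) :=
      subsingleton_of_forall_eq 0 fun x => Ext.eq_zero_of_injective x
    exact AddMonoidHom.bijective_of_surjective_of_bijective_of_right_exact _ _ _ _
      (extCmp F η S.X₂ n) (extCmp F η S.X₃ n) (extCmp F η S.X₁ (n + 1))
      (by
        ext x
        exact (extCmp_comp_mk₀ F η S.g n x).symm)
      (by
        ext x
        exact (extCmp_comp_extClass F η hS n (n + 1) rfl x).symm)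
      ((ShortComplex.ab_exact_iff_function_exact _).mp
        (Ext.covariant_sequence_exact₃' A hS n (n + 1) rfl))
      ((ShortComplex.ab_exact_iff_function_exact _).mp
        (Ext.covariant_sequence_exact₃' A' (hS.map_of_exact F) n (n + 1) rfl))
      (hn _).surjective (hn _)
      (fun x₁ => Ext.covariant_sequence_exact₁ _ hS x₁ (Subsingleton.elim _ _) rfl)
      (fun y₁ => Ext.covariant_sequence_exact₁ _ (hS.map_of_exact F) y₁ (Subsingleton.elim _ _) rfl)

end Groth.Agent.LD.CL
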